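import Groth.Agent.Lib.EtQuotH28.Main
import Mathlib.RingTheory.Invariant.Basic
import Mathlib.RingTheory.Filtration
import Mathlib.RingTheory.Ideal.GoingUp

/-!
# Invariants of an equivariant map with equal stabilisers and the same thickenings
-/

set_option autoImplicit false
set_option linter.style.haveILetI false

universe u

open scoped Pointwise

namespace Groth.Agent.EtInv28

/-- Artin–Rees for the kernel of a linear map. -/
theorem exists_ker_approx {P M N : Type u} [CommRing P] [IsNoetherianRing P] [AddCommGroup M] [Module P M]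
    [AddCommGroup N] [Module P N] [Module.Finite P N] (f : M →ₗ[P] N) (I : Ideal P) (n : ℕ) :
    ∃ N₀ : ℕ, ∀ m : M, f m ∈ I ^ N₀ • (⊤ : Submodule P N) →
      ∃ m₀ : M, f m₀ = 0 ∧ m - m₀ ∈ I ^ n • (⊤ : Submodule P M) := by
  obtain ⟨k, hk⟩ := I.exists_pow_inf_eq_pow_smul (LinearMap.range f)
  refine ⟨n + k, fun m hm => ?_⟩
  have h1 : f m ∈ I ^ (n + k) • (⊤ : Submodule P N) ⊓ LinearMap.range f := ⟨hm, m, rfl⟩
  rw [hk _ le_add_self, Nat.add_sub_cancel] at h1
  have h2 : f m ∈ (I ^ n • (⊤ : Submodule P M)).map f := by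
    rw [Submodule.map_smul'', Submodule.map_top]
    exact Submodule.smul_mono le_rfl inf_le_right h1
  obtain ⟨m', hm', he⟩ := h2
  exact ⟨m - m', by rw [map_sub, he, sub_self], by rwa [sub_sub_cancel]⟩

/-- Elements deep at a whole orbit are deep in the extended ideal of the invariants. -/
theorem exists_orbit_pow_le {Q A G : Type u} [CommRing Q] [CommRing A] [Algebra Q A] [IsNoetherianRing A]
    [Group G] [Finite G] [MulSemiringAction G A] [SMulCommClass G Q A] [Algebra.IsInvariant Q A G]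
    (x : Ideal A) [x.IsMaximal] (n : ℕ) :
    ∃ M : ℕ, ∀ a : A, (∀ g : G, a ∈ (g • x) ^ M) → a ∈ (((x.comap (algebraMap Q A)).map (algebraMap Q A))) ^ n := by
  classical
  cases nonempty_fintype G
  haveI := Algebra.IsInvariant.isIntegral Q A G
  set q := x.comap (algebraMap Q A) with hq
  haveI : q.IsMaximal := Ideal.isMaximal_comap_of_isIntegral_of_isMaximal x
  let O : Finset (Ideal A) := Finset.univ.image fun g : G => g • x
  let J : Ideal A := ⨅ P ∈ O, P
  have hmax : ∀ P ∈ O, P.IsMaximal := fun P hP => by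
    obtain ⟨g, -, rfl⟩ := Finset.mem_image.1 hP
    exact Ideal.map_isMaximal_of_equiv (MulSemiringAction.toRingEquiv G A g) (p := x)
  have hrad : J ≤ (q.map (algebraMap Q A)).radical := by
    rw [Ideal.radical_eq_sInf]
    refine le_sInf ?_
    rintro P ⟨hle, hP⟩
    have hu : x.under Q = P.under Q := by
      refine ‹q.IsMaximal›.eq_of_le (Ideal.IsPrime.ne_top inferInstance) fun z hz => ?_
      exact hle (Ideal.mem_map_of_mem _ hz)
    obtain ⟨g, rfl⟩ := Algebra.IsInvariant.exists_smul_of_under_eq Q A G x P hu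
    exact iInf₂_le_of_le (g • x) (Finset.mem_image.2 ⟨g, Finset.mem_univ _, rfl⟩) le_rfl
  obtain ⟨M₀, hM₀⟩ := Ideal.exists_pow_le_of_le_radical_of_fg hrad (IsNoetherian.noetherian J)
  refine ⟨M₀ * n, fun a ha => ?_⟩
  have hcop : ∀ M : ℕ, (O : Set (Ideal A)).Pairwise fun P P' => IsCoprime (P ^ M) (P' ^ M) := fun M P hP P' hP' hne =>
    (Ideal.isCoprime_iff_sup_eq.2 ((hmax P hP).coprime_of_ne (hmax P' hP') hne)).pow
  have h1 : a ∈ ∏ P ∈ O, P ^ (M₀ * n) := by
    rw [Ideal.prod_eq_iInf_of_pairwise_isCoprime (hcop _)]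
    simp only [Ideal.mem_iInf]
    intro P hP
    obtain ⟨g, -, rfl⟩ := Finset.mem_image.1 hP
    exact ha g
  have h3 : ∏ P ∈ O, P ≤ J := le_iInf₂ fun P hP =>
    (Ideal.prod_le_inf (f := fun P : Ideal A => P)).trans (Finset.inf_le (f := fun P : Ideal A => P) hP)
  have h2 : ∏ P ∈ O, P ^ (M₀ * n) ≤ J ^ (M₀ * n) := by
    rw [Finset.prod_pow]
    exact Ideal.pow_right_mono h3 _
  rw [pow_mul] at h2
  exact Ideal.pow_right_mono hM₀ n (h2 h1)

variable {P Q B A G : Type u} [CommRing P] [CommRing Q] [CommRing B] [CommRing A] [Algebra P Q] [Algebra P B]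
  [Algebra Q A] [Algebra B A] [Algebra P A] [IsScalarTower P B A] [IsScalarTower P Q A]
  [Group G] [Finite G] [MulSemiringAction G A] [MulSemiringAction G B] [SMulCommClass G P B]
  [SMulCommClass G Q A] [Algebra.IsInvariant P B G] [Algebra.IsInvariant Q A G]
  [IsNoetherianRing P] [IsNoetherianRing Q] [IsNoetherianRing A] [IsNoetherianRing B] [Module.Finite P B]
  [Module.Finite Q A] [Algebra.FiniteType P Q]

/-- Equal stabilisers and the same thickenings give an étale map of invariants. -/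
theorem isEtaleAt_of_thick (hPi : Function.Injective (algebraMap P B)) (hQi : Function.Injective (algebraMap Q A))
    (hGeq : ∀ (g : G) (b : B), algebraMap B A (g • b) = g • algebraMap B A b) (x : Ideal A) [x.IsMaximal]
    (y : Ideal B) [y.IsMaximal] (hxy : y = x.comap (algebraMap B A))
    (hstab : ∀ g : G, g • y = y → g • x = x)
    (hsur : ∀ (a : A) (M : ℕ), ∃ b : B, a - algebraMap B A b ∈ x ^ M)
    (hinj : ∀ (b : B) (M : ℕ), algebraMap B A b ∈ x ^ M → b ∈ y ^ M) :
    Algebra.IsEtaleAt P (x.comap (algebraMap Q A)) ∧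
      ∀ a : Q, ∃ s : P, algebraMap Q A a - algebraMap P A s ∈ x := by
  classical
  cases nonempty_fintype G
  haveI : Algebra.FinitePresentation P Q := Algebra.FinitePresentation.of_finiteType.1 inferInstance
  haveI := Algebra.IsInvariant.isIntegral Q A G
  haveI := Algebra.IsInvariant.isIntegral P B G
  set q := x.comap (algebraMap Q A) with hq
  set p := y.comap (algebraMap P B) with hp
  haveI : q.IsMaximal := Ideal.isMaximal_comap_of_isIntegral_of_isMaximal x
  haveI : p.IsMaximal := Ideal.isMaximal_comap_of_isIntegral_of_isMaximal y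
  have hpq : q.comap (algebraMap P Q) = p := by
    rw [hp, hq, hxy, Ideal.comap_comap, Ideal.comap_comap, ← IsScalarTower.algebraMap_eq,
      ← IsScalarTower.algebraMap_eq]
  have hpow : ∀ (g : G) (M : ℕ) (z : A), z ∈ x ^ M → g • z ∈ (g • x) ^ M := fun g M z hz => by
    rw [← smul_pow']; exact Ideal.smul_mem_pointwise_smul g z _ hz
  have hpowB : ∀ (g : G) (M : ℕ) (z : B), z ∈ y ^ M → g • z ∈ (g • y) ^ M := fun g M z hz => by
    rw [← smul_pow']; exact Ideal.smul_mem_pointwise_smul g z _ hz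
  have hgy : ∀ (g : G) (M : ℕ) (b : B), b ∈ (g • y) ^ M → algebraMap B A b ∈ (g • x) ^ M := by
    intro g M b hb
    rw [← smul_pow', Ideal.mem_pointwise_smul_iff_inv_smul_mem] at hb
    have h1 : algebraMap B A (g⁻¹ • b) ∈ x ^ M := by
      have h2 : y.map (algebraMap B A) ≤ x := Ideal.map_le_iff_le_comap.2 hxy.le
      exact Ideal.pow_right_mono h2 M (by rw [← Ideal.map_pow]; exact Ideal.mem_map_of_mem _ hb)
    have h3 := hpow g M _ h1
    rwa [hGeq, smul_inv_smul] at h3
  have hgx : ∀ (g : G) (M : ℕ) (b : B), algebraMap B A b ∈ (g • x) ^ M → b ∈ (g • y) ^ M := by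
    intro g M b hb
    rw [← smul_pow', Ideal.mem_pointwise_smul_iff_inv_smul_mem, ← hGeq] at hb
    have h3 := hpowB g M _ (hinj _ M hb)
    rwa [smul_inv_smul] at h3
  suffices hsurj : ∀ (a : Q) (n : ℕ), ∃ s : P, a - algebraMap P Q s ∈ q ^ n by
    refine ⟨EtQuotH28.isEtaleAt_of_thickenings p q hpq hsurj (fun n => ?_), fun a => ?_⟩
    swap
    · obtain ⟨s, hs⟩ := hsurj a 1
      rw [pow_one, hq, Ideal.mem_comap, map_sub, ← IsScalarTower.algebraMap_apply] at hs
      exact ⟨s, hs⟩
    -- injectivity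
    obtain ⟨N', hN'⟩ := exists_ker_approx (IsScalarTower.toAlgHom P P B).toLinearMap p n
    obtain ⟨MB, hMB⟩ := exists_orbit_pow_le (Q := P) (G := G) y N'
    refine ⟨MB, fun s hs => ?_⟩
    have h0 : algebraMap B A (algebraMap P B s) ∈ x ^ MB := by
      rw [← IsScalarTower.algebraMap_apply, IsScalarTower.algebraMap_apply P Q A]
      have h1 : q.map (algebraMap Q A) ≤ x := Ideal.map_le_iff_le_comap.2 le_rfl
      exact Ideal.pow_right_mono h1 MB (by rw [← Ideal.map_pow]; exact Ideal.mem_map_of_mem _ hs)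
    have hy : ∀ g : G, algebraMap P B s ∈ (g • y) ^ MB := fun g => by
      have := hpowB g MB _ (hinj _ MB h0)
      rwa [smul_algebraMap] at this
    have hz : algebraMap P B s ∈ p ^ N' • (⊤ : Submodule P B) := by
      rw [Ideal.smul_top_eq_map, Submodule.restrictScalars_mem, Ideal.map_pow]
      exact hMB _ hy
    obtain ⟨m₀, hm₀, hm⟩ := hN' _ hz
    have : m₀ = 0 := hPi (hm₀.trans (map_zero _).symm)
    rwa [this, sub_zero, smul_eq_mul, Ideal.mul_top] at hm
  intro a n
  -- surjectivity
  obtain ⟨N, hN⟩ := exists_ker_approx (IsScalarTower.toAlgHom Q Q A).toLinearMap q n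
  let δ : B →ₗ[P] (G → B) := LinearMap.pi fun g => (DistribSMul.toLinearMap P B g) - LinearMap.id
  obtain ⟨N₂, hN₂⟩ := exists_ker_approx δ p N
  obtain ⟨MA, hMA⟩ := exists_orbit_pow_le (Q := Q) (G := G) x N
  obtain ⟨MB, hMB⟩ := exists_orbit_pow_le (Q := P) (G := G) y N₂
  let M := max MA MB
  obtain ⟨b₁, hb₁⟩ := hsur (algebraMap Q A a) M
  let O : Finset (Ideal B) := Finset.univ.image fun g : G => g • y
  have hex : ∀ P' : O, ∃ g : G, g • y = P' := fun P' => by
    obtain ⟨g, -, hg⟩ := Finset.mem_image.1 P'.2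
    exact ⟨g, hg⟩
  choose gP hgP using hex
  have hcop : Pairwise (Function.onFun IsCoprime fun P' : O => (P' : Ideal B) ^ M) := fun P₁ P₂ hne => by
    have hm : ∀ P' : O, (P' : Ideal B).IsMaximal := fun P' =>
      hgP P' ▸ Ideal.map_isMaximal_of_equiv (MulSemiringAction.toRingEquiv G B (gP P')) (p := y)
    exact (Ideal.isCoprime_iff_sup_eq.2 ((hm P₁).coprime_of_ne (hm P₂) (Subtype.coe_injective.ne hne))).pow
  obtain ⟨b, hb⟩ := Ideal.exists_forall_sub_mem_ideal hcop (fun P' : O => gP P' • b₁)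
  have hall : ∀ g : G, algebraMap Q A a - algebraMap B A b ∈ (g • x) ^ M := by
    intro g
    let P' : O := ⟨g • y, Finset.mem_image.2 ⟨g, Finset.mem_univ _, rfl⟩⟩
    have h0 : gP P' • y = g • y := hgP P'
    have hx' : gP P' • x = g • x := by
      have h := hstab ((gP P')⁻¹ * g) (by rw [mul_smul, ← h0, inv_smul_smul])
      rw [mul_smul, inv_smul_eq_iff] at h
      exact h.symm
    rw [← hx']
    have h1 : algebraMap B A (b - gP P' • b₁) ∈ (gP P' • x) ^ M := hgy _ M _ (by
      have := hb P'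
      rwa [show ((P' : Ideal B)) = gP P' • y from (hgP P').symm] at this)
    have h2 := hpow (gP P') M _ hb₁
    rw [smul_sub, ← hGeq, show gP P' • algebraMap Q A a = algebraMap Q A a from smul_algebraMap _ a] at h2
    have h3 := sub_mem h2 h1
    rw [map_sub] at h3
    convert h3 using 1
    ring
  have hδ : δ b ∈ p ^ N₂ • (⊤ : Submodule P (G → B)) := by
    have hcoord : ∀ h : G, h • b - b ∈ p ^ N₂ • (⊤ : Submodule P B) := by
      intro h
      rw [Ideal.smul_top_eq_map, Submodule.restrictScalars_mem, Ideal.map_pow]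
      refine hMB _ fun g => hgx g MB _ (Ideal.pow_le_pow_right (le_max_right MA MB) ?_)
      have h1 := hall g
      have h2 : algebraMap Q A a - h • algebraMap B A b ∈ (g • x) ^ M := by
        have := hall (h⁻¹ * g)
        have h3 : h • (algebraMap Q A a - algebraMap B A b) ∈ h • ((h⁻¹ * g) • x) ^ M :=
          Ideal.smul_mem_pointwise_smul h _ _ this
        rwa [smul_sub, smul_algebraMap, smul_pow', ← mul_smul, mul_inv_cancel_left] at h3
      rw [map_sub, hGeq]
      have := sub_mem h1 h2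
      rwa [sub_sub_sub_cancel_left] at this
    rw [show δ b = ∑ h : G, LinearMap.single P (fun _ : G => B) h (h • b - b) from
      (Finset.univ_sum_single (δ b)).symm]
    refine sum_mem fun h _ => ?_
    have := Submodule.mem_map_of_mem (f := LinearMap.single P (fun _ : G => B) h) (hcoord h)
    rw [Submodule.map_smul''] at this
    exact Submodule.smul_mono le_rfl le_top this
  obtain ⟨b₀, hb₀, hbb⟩ := hN₂ b hδ
  obtain ⟨s, hs⟩ := Algebra.IsInvariant.isInvariant (A := P) (G := G) b₀ fun g => by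
    have := congrFun hb₀ g
    exact sub_eq_zero.1 this
  refine ⟨s, ?_⟩
  have hz : algebraMap Q A (a - algebraMap P Q s) ∈ q ^ N • (⊤ : Submodule Q A) := by
    rw [Ideal.smul_top_eq_map, Submodule.restrictScalars_mem, map_sub, ← IsScalarTower.algebraMap_apply,
      IsScalarTower.algebraMap_apply P B A, hs, Ideal.map_pow,
      ← sub_add_sub_cancel (algebraMap Q A a) (algebraMap B A b) (algebraMap B A b₀)]
    refine add_mem (hMA _ fun g => Ideal.pow_le_pow_right (le_max_left MA MB) (hall g)) ?_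
    rw [← map_sub]
    rw [Ideal.smul_top_eq_map, Submodule.restrictScalars_mem, Ideal.map_pow] at hbb
    have h1 : (p.map (algebraMap P B)).map (algebraMap B A) ≤ q.map (algebraMap Q A) := by
      rw [Ideal.map_map, ← IsScalarTower.algebraMap_eq, IsScalarTower.algebraMap_eq P Q A, ← Ideal.map_map]
      exact Ideal.map_mono (Ideal.map_le_iff_le_comap.2 hpq.ge)
    exact Ideal.pow_right_mono h1 N (by rw [← Ideal.map_pow]; exact Ideal.mem_map_of_mem _ hbb)
  obtain ⟨m₀, hm₀, hm⟩ := hN _ hz
  have : m₀ = 0 := hQi (hm₀.trans (map_zero _).symm)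
  rwa [this, sub_zero, smul_eq_mul, Ideal.mul_top] at hm

end Groth.Agent.EtInv28
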