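import Mathlib.RingTheory.AdjoinRoot
import Mathlib.FieldTheory.PrimitiveElement
import Mathlib.FieldTheory.SeparableClosure
import Mathlib.FieldTheory.PurelyInseparable.Basic
import Mathlib.RingTheory.Localization.AtPrime.Basic
import Mathlib.RingTheory.LocalRing.ResidueField.Ideal
import Mathlib.RingTheory.Flat.Localization
import Mathlib.RingTheory.Localization.Submodule

/-!
# A flat unramified extension catching the separable part of a residue extension
-/

set_option autoImplicit false
set_option linter.style.haveILetI false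

universe u

open Polynomial

namespace Groth.Agent.EtInv28

theorem exists_ext {P κ : Type u} [CommRing P] [IsNoetherianRing P] [Field κ] [Algebra P κ] (p : Ideal P)
    [p.IsPrime] [Algebra p.ResidueField κ] [IsScalarTower P p.ResidueField κ]
    [Module.Finite p.ResidueField κ] :
    ∃ (T : Type u) (_ : CommRing T) (_ : Algebra P T) (τ : T →ₐ[P] κ), IsNoetherianRing T ∧ Module.Flat P T ∧
      (RingHom.ker τ).IsMaximal ∧ p.map (algebraMap P T) = RingHom.ker τ ∧
      (∀ z : κ, ∃ (n : ℕ) (t : T), τ t = z ^ ringExpChar p.ResidueField ^ n) ∧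
      ∀ t : T, IsSeparable p.ResidueField (τ t) := by
  let K := p.ResidueField
  let R₀ := Localization.AtPrime p
  haveI : IsNoetherianRing R₀ := IsLocalization.isNoetherianRing p.primeCompl R₀ inferInstance
  let E := separableClosure K κ
  obtain ⟨θ, hθ⟩ := Field.exists_primitive_element K E
  let g := minpoly K (θ : κ)
  have hint : IsIntegral K (θ : κ) := IsIntegral.of_finite K _
  letI : Algebra R₀ κ := ((algebraMap K κ).comp (algebraMap R₀ K)).toAlgebra
  haveI : IsScalarTower R₀ K κ := IsScalarTower.of_algebraMap_eq fun _ => rfl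
  haveI : IsScalarTower P R₀ κ := IsScalarTower.of_algebraMap_eq fun c => by
    show algebraMap P κ c = algebraMap K κ (algebraMap R₀ K (algebraMap P R₀ c))
    rw [← IsScalarTower.algebraMap_apply P R₀ K, ← IsScalarTower.algebraMap_apply]
  have hsurj : Function.Surjective (algebraMap R₀ K) := IsLocalRing.residue_surjective
  have hkerK : RingHom.ker (algebraMap R₀ K) = p.map (algebraMap P R₀) := by
    rw [Localization.AtPrime.map_eq_maximalIdeal]
    exact IsLocalRing.ker_residue
  obtain ⟨f, hfg, -, hfm⟩ := Polynomial.lifts_and_natDegree_eq_and_monic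
    (Polynomial.mem_lifts g |>.2 (Polynomial.map_surjective _ hsurj g)) (minpoly.monic hint)
  have hroot : (Polynomial.aeval (θ : κ)) f = 0 := by
    rw [← Polynomial.aeval_map_algebraMap K, hfg]
    exact minpoly.aeval K _
  let τ₀ : AdjoinRoot f →ₐ[R₀] κ := AdjoinRoot.liftAlgHom f (Algebra.ofId R₀ κ) (θ : κ)
    (by rw [← hroot, Polynomial.aeval_def]; rfl)
  haveI : Module.Free R₀ (AdjoinRoot f) := .of_basis (AdjoinRoot.powerBasis' hfm).basis
  haveI : Module.Finite R₀ (AdjoinRoot f) := .of_basis (AdjoinRoot.powerBasis' hfm).basis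
  let τ : AdjoinRoot f →ₐ[P] κ := τ₀.restrictScalars P
  have hmk : ∀ h : R₀[X], τ₀ (AdjoinRoot.mk f h) = Polynomial.aeval (θ : κ) (h.map (algebraMap R₀ K)) := fun h => by
    rw [Polynomial.aeval_map_algebraMap, ← AdjoinRoot.aeval_eq, ← Polynomial.aeval_algHom_apply]
    congr 2
    exact AdjoinRoot.liftAlgHom_root _ _ _ _
  have hE : ∀ z : E, ∃ t : AdjoinRoot f, τ t = (z : κ) := by
    intro z
    have h1 : z ∈ Algebra.adjoin K ({θ} : Set E) := by
      rw [← IntermediateField.adjoin_simple_toSubalgebra_of_isAlgebraic (Algebra.IsAlgebraic.isAlgebraic θ), hθ]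
      trivial
    rw [Algebra.adjoin_singleton_eq_range_aeval] at h1
    obtain ⟨h, rfl⟩ := h1
    obtain ⟨h', rfl⟩ := Polynomial.map_surjective _ hsurj h
    refine ⟨AdjoinRoot.mk f h', ?_⟩
    show τ₀ _ = _
    rw [hmk]
    exact Polynomial.aeval_algHom_apply E.val θ _
  have hsep : ∀ t : AdjoinRoot f, IsSeparable K (τ t) := by
    intro t
    obtain ⟨h, rfl⟩ := AdjoinRoot.mk_surjective t
    show IsSeparable K (τ₀ _)
    rw [hmk, show (θ : κ) = E.val θ from rfl, Polynomial.aeval_algHom_apply E.val θ]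
    exact mem_separableClosure_iff.1 (SetLike.coe_mem _)
  refine ⟨AdjoinRoot f, inferInstance, inferInstance, τ, IsNoetherianRing.of_finite R₀ _, ?_, ?_, ?_, ?_, hsep⟩
  · haveI : Module.Flat P R₀ := IsLocalization.flat R₀ p.primeCompl
    exact Module.Flat.trans P R₀ (AdjoinRoot f)
  · refine Ideal.Quotient.maximal_of_isField _ ?_
    haveI : (RingHom.ker τ).IsPrime := RingHom.ker_isPrime _
    refine IsField.mk ⟨0, 1, zero_ne_one⟩ mul_comm fun {a} ha => ?_
    obtain ⟨t, rfl⟩ := Ideal.Quotient.mk_surjective a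
    have h0 : τ t ≠ 0 := fun h => ha (Ideal.Quotient.eq_zero_iff_mem.2 h)
    have hmem : (τ t)⁻¹ ∈ E := inv_mem (mem_separableClosure_iff.2 (hsep t))
    obtain ⟨s, hs⟩ := hE ⟨_, hmem⟩
    refine ⟨Ideal.Quotient.mk _ s, ?_⟩
    rw [← map_mul, ← map_one (Ideal.Quotient.mk (RingHom.ker τ)), Ideal.Quotient.eq, RingHom.mem_ker, map_sub,
      map_mul, map_one, hs, mul_inv_cancel₀ h0, sub_self]
  · refine le_antisymm (Ideal.map_le_iff_le_comap.2 fun c hc => ?_) fun t ht => ?_
    · rw [Ideal.mem_comap, RingHom.mem_ker, AlgHom.commutes, IsScalarTower.algebraMap_apply P K κ,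
        Ideal.algebraMap_residueField_eq_zero.2 hc, map_zero]
    · obtain ⟨h, rfl⟩ := AdjoinRoot.mk_surjective t
      have h1 : τ₀ (AdjoinRoot.mk f h) = 0 := ht
      rw [hmk] at h1
      obtain ⟨d, hd⟩ := minpoly.dvd K _ h1
      obtain ⟨d', rfl⟩ := Polynomial.map_surjective _ hsurj d
      have h2 : ∀ i, (h - f * d').coeff i ∈ p.map (algebraMap P R₀) := by
        intro i
        rw [← hkerK, RingHom.mem_ker, ← Polynomial.coeff_map, Polynomial.map_sub, Polynomial.map_mul, hfg, hd,
          sub_self, Polynomial.coeff_zero]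
      have h3 : h - f * d' ∈ (p.map (algebraMap P R₀)).map (C : R₀ →+* R₀[X]) := Ideal.mem_map_C_iff.2 h2
      have h4 := Ideal.mem_map_of_mem (AdjoinRoot.mk f) h3
      rw [map_sub, map_mul, AdjoinRoot.mk_self, zero_mul, sub_zero, Ideal.map_map, Ideal.map_map] at h4
      exact h4
  · intro z
    obtain ⟨n, e, he⟩ := (isPurelyInseparable_iff_pow_mem E (ringExpChar K)).1 inferInstance z
    obtain ⟨t, ht⟩ := hE e
    exact ⟨n, t, ht.trans he⟩

end Groth.Agent.EtInv28
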