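import Groth.Agent.Lib.EtInv28.Main
import Mathlib.RingTheory.Adjoin.Tower
import Mathlib.Algebra.Algebra.Subalgebra.Operations

/-!
# The fixed subalgebras
-/

set_option autoImplicit false
set_option linter.style.haveILetI false

universe u

namespace Groth.Agent.EtInv28

variable {R B G : Type u} [CommRing R] [CommRing B] [Algebra R B] [Group G] [MulSemiringAction G B]
  [SMulCommClass G R B]

theorem isInvariant_fixed : Algebra.IsInvariant (FixedPoints.subalgebra R B G) B G :=
  ⟨fun b hb => ⟨⟨b, hb⟩, rfl⟩⟩

theorem injective_fixed : Function.Injective (algebraMap (FixedPoints.subalgebra R B G) B) :=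
  Subtype.val_injective

theorem finite_fixed [Finite G] [Algebra.FiniteType R B] : Module.Finite (FixedPoints.subalgebra R B G) B := by
  haveI := isInvariant_fixed (R := R) (B := B) (G := G)
  haveI := Algebra.IsInvariant.isIntegral (FixedPoints.subalgebra R B G) B G
  haveI : Algebra.FiniteType (FixedPoints.subalgebra R B G) B :=
    Algebra.FiniteType.of_restrictScalars_finiteType R _ B
  exact Algebra.IsIntegral.finite

theorem finiteType_fixed [Finite G] [IsNoetherianRing R] [Algebra.FiniteType R B] :
    Algebra.FiniteType R (FixedPoints.subalgebra R B G) :=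
  ⟨fg_of_fg_of_fg R _ B (‹Algebra.FiniteType R B›).out (finite_fixed (R := R) (B := B) (G := G)).fg_top
    injective_fixed⟩

variable [Finite G] [IsNoetherianRing R] [Algebra.FiniteType R B]
variable {A : Type u} [CommRing A] [Algebra R A] [Algebra.FiniteType R A] [MulSemiringAction G A]
  [SMulCommClass G R A] [Algebra B A] [IsScalarTower R B A]
  [Algebra (FixedPoints.subalgebra R B G) (FixedPoints.subalgebra R A G)]
  [IsScalarTower (FixedPoints.subalgebra R B G) (FixedPoints.subalgebra R A G) A]

theorem finiteType_fixed_map : Algebra.FiniteType (FixedPoints.subalgebra R B G) (FixedPoints.subalgebra R A G) := by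
  haveI := finiteType_fixed (R := R) (B := A) (G := G)
  haveI : IsScalarTower R (FixedPoints.subalgebra R B G) (FixedPoints.subalgebra R A G) :=
    IsScalarTower.of_algebraMap_eq fun r => Subtype.ext (by
      show algebraMap R A r = algebraMap (FixedPoints.subalgebra R A G) A
        (algebraMap (FixedPoints.subalgebra R B G) (FixedPoints.subalgebra R A G) (algebraMap R _ r))
      rw [← IsScalarTower.algebraMap_apply (FixedPoints.subalgebra R B G) (FixedPoints.subalgebra R A G) A,
        ← IsScalarTower.algebraMap_apply R (FixedPoints.subalgebra R B G) A])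
  exact Algebra.FiniteType.of_restrictScalars_finiteType R _ _

theorem isEtaleAt_fixed (hGeq : ∀ (g : G) (b : B), algebraMap B A (g • b) = g • algebraMap B A b) (x : Ideal A)
    [x.IsMaximal] (hx : Algebra.IsEtaleAt B x) (hin : x.inertia G = (x.comap (algebraMap B A)).inertia G) :
    Algebra.IsEtaleAt (FixedPoints.subalgebra R B G) (x.comap (algebraMap (FixedPoints.subalgebra R A G) A)) := by
  haveI := finiteType_fixed (R := R) (B := B) (G := G)
  haveI : IsNoetherianRing (FixedPoints.subalgebra R B G) := Algebra.FiniteType.isNoetherianRing R _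
  haveI := isInvariant_fixed (R := R) (B := B) (G := G)
  haveI := isInvariant_fixed (R := R) (B := A) (G := G)
  haveI := finiteType_fixed_map (R := R) (B := B) (A := A) (G := G)
  haveI := finite_fixed (R := R) (B := B) (G := G)
  haveI := finite_fixed (R := R) (B := A) (G := G)
  exact isEtaleAt_of_inertia injective_fixed injective_fixed hGeq x hx hin

theorem etale_fixed (hGeq : ∀ (g : G) (b : B), algebraMap B A (g • b) = g • algebraMap B A b)
    (h : ∀ (x : Ideal A) (_ : x.IsMaximal),
      Algebra.IsEtaleAt B x ∧ x.inertia G = (x.comap (algebraMap B A)).inertia G) :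
    Algebra.Etale (FixedPoints.subalgebra R B G) (FixedPoints.subalgebra R A G) := by
  haveI := finiteType_fixed (R := R) (B := B) (G := G)
  haveI : IsNoetherianRing (FixedPoints.subalgebra R B G) := Algebra.FiniteType.isNoetherianRing R _
  haveI := finiteType_fixed_map (R := R) (B := B) (A := A) (G := G)
  haveI : Algebra.FinitePresentation (FixedPoints.subalgebra R B G) (FixedPoints.subalgebra R A G) :=
    Algebra.FinitePresentation.of_finiteType.1 inferInstance
  haveI := isInvariant_fixed (R := R) (B := A) (G := G)
  haveI := Algebra.IsInvariant.isIntegral (FixedPoints.subalgebra R A G) A G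
  refine Algebra.etaleLocus_eq_univ_iff_etale.1 (Set.eq_univ_iff_forall.2 fun z => ?_)
  obtain ⟨m, hm, hzm⟩ := z.asIdeal.exists_le_maximal z.2.ne_top
  haveI := hm
  obtain ⟨x, hx, hxm⟩ := Ideal.exists_ideal_over_maximal_of_isIntegral (S := A) m
    (by rw [(RingHom.injective_iff_ker_eq_bot _).1 injective_fixed]; exact bot_le)
  haveI := hx
  obtain ⟨h1, h2⟩ := h x hx
  have hx' := isEtaleAt_fixed (R := R) hGeq x h1 h2
  have hmem : (⟨m, hm.isPrime⟩ : PrimeSpectrum (FixedPoints.subalgebra R A G)) ∈
      Algebra.etaleLocus (FixedPoints.subalgebra R B G) (FixedPoints.subalgebra R A G) := by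
    subst hxm
    exact hx'
  exact ((PrimeSpectrum.le_iff_specializes z ⟨m, hm.isPrime⟩).1 hzm).mem_open Algebra.isOpen_etaleLocus hmem

end Groth.Agent.EtInv28
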