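import Mathlib.RingTheory.Etale.Locus
import Mathlib.RingTheory.Invariant.Basic
import Mathlib.RingTheory.Flat.Basic
import Mathlib.RingTheory.TensorProduct.Maps
import Mathlib.LinearAlgebra.Pi

/-!
# Base change of a group action and of an étale point
-/

set_option autoImplicit false
set_option linter.style.haveILetI false

universe u

open TensorProduct

namespace Groth.Agent.EtInv28

section Action

variable {P A G : Type u} [CommRing P] [CommRing A] [Algebra P A] [Group G] [MulSemiringAction G A]
  [SMulCommClass G P A] (T : Type u) [CommRing T] [Algebra P T]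

/-- `g ⊗ 1` on `A ⊗ T`. -/
noncomputable def tAct (g : G) : A ⊗[P] T →ₐ[P] A ⊗[P] T :=
  Algebra.TensorProduct.map (MulSemiringAction.toAlgHom P A g) (AlgHom.id P T)

omit [Group G] in
theorem tAct_tmul [Group G] [MulSemiringAction G A] [SMulCommClass G P A] (g : G) (a : A) (t : T) :
    tAct T g (a ⊗ₜ[P] t) = (g • a) ⊗ₜ[P] t := by
  simp [tAct]

/-- The action on the first factor. -/
noncomputable def tensorAction : MulSemiringAction G (A ⊗[P] T) where
  smul g z := tAct T g z
  one_smul z := by
    show tAct T (1 : G) z = z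
    induction z with
    | zero => simp
    | tmul a t => simp [tAct]
    | add a b ha hb => rw [map_add, ha, hb]
  mul_smul g h z := by
    show tAct T (g * h) z = tAct T g (tAct T h z)
    induction z with
    | zero => simp
    | tmul a t => simp [tAct, mul_smul]
    | add a b ha hb => simp [map_add, ha, hb]
  smul_zero g := map_zero (tAct T g)
  smul_add g := map_add (tAct T g)
  smul_one g := map_one (tAct T g)
  smul_mul g := map_mul (tAct T g)

end Action

section Invariant

variable {P Q A G : Type u} [CommRing P] [CommRing Q] [CommRing A] [Algebra P Q] [Algebra P A] [Algebra Q A]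
  [IsScalarTower P Q A] [Group G] [Finite G] [MulSemiringAction G A] [SMulCommClass G P A] [SMulCommClass G Q A]
  [Algebra.IsInvariant Q A G] (T : Type u) [CommRing T] [Algebra P T] [Module.Flat P T]

omit [Group G] [Finite G] [MulSemiringAction G A] [SMulCommClass G P A] [SMulCommClass G Q A] [Algebra.IsInvariant Q A G] in
theorem tensor_injective (hi : Function.Injective (algebraMap Q A)) :
    Function.Injective (Algebra.TensorProduct.map (IsScalarTower.toAlgHom P Q A) (AlgHom.id P T)) :=
  Module.Flat.rTensor_preserves_injective_linearMap (M := T) (IsScalarTower.toAlgHom P Q A).toLinearMap hi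

/-- Invariants commute with flat base change. -/
theorem exists_of_fixed (z : A ⊗[P] T) (hz : ∀ g : G, tAct T g z = z) :
    ∃ w : Q ⊗[P] T, Algebra.TensorProduct.map (IsScalarTower.toAlgHom P Q A) (AlgHom.id P T) w = z := by
  classical
  cases nonempty_fintype G
  let δg : G → (A →ₗ[P] A) := fun g => (MulSemiringAction.toAlgHom P A g).toLinearMap - LinearMap.id
  let δ : A →ₗ[P] (G → A) := LinearMap.pi δg
  have hex : Function.Exact (IsScalarTower.toAlgHom P Q A).toLinearMap δ := by
    intro a
    constructor
    · intro ha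
      obtain ⟨s, hs⟩ := Algebra.IsInvariant.isInvariant (A := Q) (G := G) a fun g => sub_eq_zero.1 (congrFun ha g)
      exact ⟨s, hs⟩
    · rintro ⟨s, rfl⟩
      funext g
      show g • algebraMap Q A s - algebraMap Q A s = 0
      rw [smul_algebraMap, sub_self]
  have h1 : LinearMap.rTensor T δ z = 0 := by
    have e : δ = ∑ g : G, LinearMap.single P (fun _ : G => A) g ∘ₗ δg g := by
      refine LinearMap.ext fun a => ?_
      rw [LinearMap.sum_apply]
      exact (Finset.univ_sum_single (δ a)).symm
    rw [e, ← LinearMap.coe_rTensorHom, map_sum, LinearMap.sum_apply]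
    refine Finset.sum_eq_zero fun g _ => ?_
    rw [LinearMap.coe_rTensorHom, LinearMap.rTensor_comp, LinearMap.comp_apply]
    have h2 : LinearMap.rTensor T (δg g) z = 0 := by
      rw [LinearMap.rTensor_sub, LinearMap.sub_apply, LinearMap.rTensor_id, LinearMap.id_apply]
      exact sub_eq_zero.2 (hz g)
    rw [h2, map_zero]
  exact (Module.Flat.rTensor_exact T hex z).1 h1

end Invariant

section Etale

variable {P B A : Type u} [CommRing P] [CommRing B] [CommRing A] [Algebra P B] [Algebra P A] [Algebra B A]
  [IsScalarTower P B A] (T : Type u) [CommRing T] [Algebra P T]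

/-- Being étale at a prime is stable under base change. -/
theorem isEtaleAt_tensor (x : Ideal A) [x.IsPrime] (hx : Algebra.IsEtaleAt B x)
    (x' : Ideal (A ⊗[P] T)) [x'.IsPrime]
    (hxx : x'.comap (Algebra.TensorProduct.includeLeft : A →ₐ[P] A ⊗[P] T).toRingHom = x) :
    letI : Algebra (B ⊗[P] T) (A ⊗[P] T) :=
      (Algebra.TensorProduct.map (IsScalarTower.toAlgHom P B A) (AlgHom.id P T)).toRingHom.toAlgebra
    Algebra.IsEtaleAt (B ⊗[P] T) x' := by
  letI : Algebra (B ⊗[P] T) (A ⊗[P] T) :=
    (Algebra.TensorProduct.map (IsScalarTower.toAlgHom P B A) (AlgHom.id P T)).toRingHom.toAlgebra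
  haveI := hx
  let L := Localization.AtPrime x
  let L' := Localization.AtPrime x'
  let incA : A →+* A ⊗[P] T := (Algebra.TensorProduct.includeLeft : A →ₐ[P] A ⊗[P] T).toRingHom
  have hcomp : ∀ b : B, algebraMap (B ⊗[P] T) (A ⊗[P] T) (b ⊗ₜ[P] (1 : T)) = algebraMap B A b ⊗ₜ[P] (1 : T) :=
    fun b => rfl
  refine Algebra.FormallyEtale.iff_comp_bijective.2 fun C _ _ I hI => ?_
  letI : Algebra B C := ((algebraMap (B ⊗[P] T) C).comp
    (Algebra.TensorProduct.includeLeftRingHom : B →+* B ⊗[P] T)).toAlgebra
  let iL : L →+* L' := Localization.localRingHom x x' incA hxx.symm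
  -- restriction of a map to the local ring of `A`
  let res : ∀ (D : Type u) [CommRing D] [Algebra (B ⊗[P] T) D] [Algebra B D],
      (∀ b : B, algebraMap B D b = algebraMap (B ⊗[P] T) D (b ⊗ₜ[P] (1 : T))) →
      (L' →ₐ[B ⊗[P] T] D) → (L →ₐ[B] D) := fun D _ _ _ hD g =>
    { toRingHom := g.toRingHom.comp iL
      commutes' := fun b => by
        show g (iL (algebraMap B L b)) = _
        rw [IsScalarTower.algebraMap_apply B A L, Localization.localRingHom_to_map, hD, ← g.commutes]
        congr 1 }
  have hC : ∀ b : B, algebraMap B C b = algebraMap (B ⊗[P] T) C (b ⊗ₜ[P] (1 : T)) := fun b => rfl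
  have hCI : ∀ b : B, algebraMap B (C ⧸ I) b = algebraMap (B ⊗[P] T) (C ⧸ I) (b ⊗ₜ[P] (1 : T)) := fun b => rfl
  obtain ⟨hinj, hsurj⟩ := Algebra.FormallyEtale.comp_bijective B L (B := C) I hI
  constructor
  · intro g₁ g₂ h
    have h0 : res C hC g₁ = res C hC g₂ := hinj (AlgHom.ext fun z => AlgHom.congr_fun h (iL z))
    have h1 : g₁.toRingHom.comp (algebraMap (A ⊗[P] T) L') = g₂.toRingHom.comp (algebraMap (A ⊗[P] T) L') := by
      refine RingHom.ext fun z => ?_
      induction z with
      | zero => simp
      | add z w hz hw => rw [map_add, map_add, hz, hw]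
      | tmul a t =>
        have ha : g₁ (algebraMap _ L' (incA a)) = g₂ (algebraMap _ L' (incA a)) := by
          have := AlgHom.congr_fun h0 (algebraMap A L a)
          change g₁ (iL (algebraMap A L a)) = g₂ (iL (algebraMap A L a)) at this
          rwa [Localization.localRingHom_to_map] at this
        have ht : algebraMap (A ⊗[P] T) L' ((1 : A) ⊗ₜ[P] t) = algebraMap (B ⊗[P] T) L' ((1 : B) ⊗ₜ[P] t) := by
          rw [IsScalarTower.algebraMap_apply (B ⊗[P] T) (A ⊗[P] T) L']
          congr 1
          simp [RingHom.algebraMap_toAlgebra]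
        have he : a ⊗ₜ[P] t = incA a * ((1 : A) ⊗ₜ[P] t) := by simp [incA]
        show g₁ (algebraMap _ L' (a ⊗ₜ[P] t)) = g₂ (algebraMap _ L' (a ⊗ₜ[P] t))
        rw [he, map_mul, map_mul, map_mul, ha, ht, g₁.commutes, g₂.commutes]
    exact AlgHom.coe_ringHom_injective (IsLocalization.ringHom_ext x'.primeCompl h1)
  · intro g
    obtain ⟨h, hh⟩ := hsurj (res (C ⧸ I) hCI g)
    letI : Algebra P C := ((algebraMap (B ⊗[P] T) C).comp (algebraMap P (B ⊗[P] T))).toAlgebra
    let hA : A →ₐ[P] C :=
      { toRingHom := h.toRingHom.comp (algebraMap A L)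
        commutes' := fun p => by
          show h (algebraMap A L (algebraMap P A p)) = _
          rw [IsScalarTower.algebraMap_apply P B A, ← IsScalarTower.algebraMap_apply B A L, h.commutes]
          show algebraMap (B ⊗[P] T) C (algebraMap P B p ⊗ₜ[P] (1 : T)) = _
          rfl }
    let hT : T →ₐ[P] C :=
      { toRingHom := (algebraMap (B ⊗[P] T) C).comp
          (Algebra.TensorProduct.includeRight : T →ₐ[P] B ⊗[P] T).toRingHom
        commutes' := fun p => by
          show algebraMap (B ⊗[P] T) C ((Algebra.TensorProduct.includeRight : T →ₐ[P] B ⊗[P] T) (algebraMap P T p)) = _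
          rw [AlgHom.commutes]
          rfl }
    let H : A ⊗[P] T →ₐ[P] C := Algebra.TensorProduct.lift hA hT fun _ _ => Commute.all _ _
    have hH : ∀ z, Ideal.Quotient.mk I (H z) = g (algebraMap (A ⊗[P] T) L' z) := by
      intro z
      induction z with
      | zero => simp
      | add z w hz hw => simp only [map_add, hz, hw]
      | tmul a t =>
        have ha : Ideal.Quotient.mk I (h (algebraMap A L a)) = g (algebraMap _ L' (incA a)) := by
          have := AlgHom.congr_fun hh (algebraMap A L a)
          change Ideal.Quotient.mk I (h (algebraMap A L a)) = g (iL (algebraMap A L a)) at this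
          rwa [Localization.localRingHom_to_map] at this
        have ht : algebraMap (A ⊗[P] T) L' ((1 : A) ⊗ₜ[P] t) = algebraMap (B ⊗[P] T) L' ((1 : B) ⊗ₜ[P] t) := by
          rw [IsScalarTower.algebraMap_apply (B ⊗[P] T) (A ⊗[P] T) L']
          congr 1
          simp [RingHom.algebraMap_toAlgebra]
        have he : a ⊗ₜ[P] t = incA a * ((1 : A) ⊗ₜ[P] t) := by simp [incA]
        rw [Algebra.TensorProduct.lift_tmul, map_mul, he, map_mul, map_mul, ht, g.commutes]
        exact congrArg₂ (· * ·) ha rfl
    have hunit : ∀ s : x'.primeCompl, IsUnit (H.toRingHom s) := fun s => by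
      rw [← IsNilpotent.isUnit_quotient_mk_iff (I := I) ⟨2, hI⟩]
      show IsUnit (Ideal.Quotient.mk I (H s))
      rw [hH]
      exact (IsLocalization.map_units L' s).map g
    let ĝ : L' →+* C := IsLocalization.lift hunit
    have hĝ : ∀ b, ĝ (algebraMap (B ⊗[P] T) L' b) = algebraMap (B ⊗[P] T) C b := fun b => by
      rw [IsScalarTower.algebraMap_apply (B ⊗[P] T) (A ⊗[P] T) L']
      refine (IsLocalization.lift_eq hunit _).trans ?_
      show H (Algebra.TensorProduct.map (IsScalarTower.toAlgHom P B A) (AlgHom.id P T) b) = _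
      induction b with
      | zero => simp
      | add z w hz hw => simp only [map_add, hz, hw]
      | tmul b t =>
        rw [Algebra.TensorProduct.map_tmul, Algebra.TensorProduct.lift_tmul]
        show h (algebraMap A L (algebraMap B A b)) * algebraMap (B ⊗[P] T) C ((1 : B) ⊗ₜ[P] t) = _
        rw [← IsScalarTower.algebraMap_apply, h.commutes, hC, ← map_mul,
          Algebra.TensorProduct.tmul_mul_tmul, mul_one, one_mul]
    refine ⟨{ toRingHom := ĝ, commutes' := hĝ }, AlgHom.coe_ringHom_injective
      (IsLocalization.ringHom_ext x'.primeCompl (RingHom.ext fun z => ?_))⟩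
    show Ideal.Quotient.mk I (ĝ (algebraMap _ L' z)) = g (algebraMap _ L' z)
    rw [IsLocalization.lift_eq]
    exact hH z

end Etale

end Groth.Agent.EtInv28
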