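import Mathlib.RingTheory.Etale.Locus
import Mathlib.RingTheory.Smooth.Flat
import Mathlib.RingTheory.Unramified.LocalRing
import Mathlib.RingTheory.Flat.Localization
import Mathlib.RingTheory.Flat.FaithfullyFlat.Algebra
import Mathlib.RingTheory.Jacobson.Ring

/-!
# Thickenings at an étale point with trivial residue extension
-/

set_option autoImplicit false
set_option linter.style.haveILetI false

universe u

open IsLocalRing

namespace Groth.Agent.EtInv28

variable {B A : Type u} [CommRing B] [CommRing A] [Algebra B A] [Algebra.FinitePresentation B A]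

theorem flat_atPrime (x : Ideal A) [x.IsPrime] (hx : Algebra.IsEtaleAt B x) :
    Module.Flat B (Localization.AtPrime x) := by
  haveI := hx
  obtain ⟨f, hf, hE⟩ := Algebra.exists_etale_of_isEtaleAt (R := B) x
  let L := Localization.AtPrime x
  have hu : IsUnit (algebraMap A L f) := IsLocalization.map_units L (⟨f, hf⟩ : x.primeCompl)
  letI : Algebra (Localization.Away f) L := (IsLocalization.Away.lift f hu).toAlgebra
  haveI : IsScalarTower A (Localization.Away f) L :=
    IsScalarTower.of_algebraMap_eq fun z => (IsLocalization.Away.lift_eq f hu z).symm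
  haveI : IsScalarTower B (Localization.Away f) L := IsScalarTower.of_algebraMap_eq fun z => by
    rw [IsScalarTower.algebraMap_apply B A (Localization.Away f), ← IsScalarTower.algebraMap_apply A,
      ← IsScalarTower.algebraMap_apply]
  haveI : Module.Flat A L := IsLocalization.flat L x.primeCompl
  haveI : Module.Flat (Localization.Away f) L :=
    (Module.flat_iff_of_isLocalization (Localization.Away f) (Submonoid.powers f) L).2 inferInstance
  exact Module.Flat.trans B (Localization.Away f) L

/-- An étale point with trivial residue extension has the same thickenings as its image. -/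
theorem thick (x : Ideal A) [x.IsMaximal] (hx : Algebra.IsEtaleAt B x) (y : Ideal B) [y.IsMaximal]
    (hxy : y = x.comap (algebraMap B A)) (hres : ∀ a : A, ∃ b : B, a - algebraMap B A b ∈ x) :
    (∀ (a : A) (M : ℕ), ∃ b : B, a - algebraMap B A b ∈ x ^ M) ∧
      ∀ (b : B) (M : ℕ), algebraMap B A b ∈ x ^ M → b ∈ y ^ M := by
  haveI := hx
  haveI := flat_atPrime x hx
  let L := Localization.AtPrime x
  haveI : x.LiesOver y := ⟨hxy⟩
  letI := Localization.AtPrime.algebraOfLiesOver y x
  have hxL : x.map (algebraMap A L) = maximalIdeal L := IsLocalization.AtPrime.map_eq_maximalIdeal x L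
  have hm : y.map (algebraMap B L) = maximalIdeal L := ((Algebra.isUnramifiedAt_iff_map_eq B y x).1 inferInstance).2
  have hgen : x ≤ y.map (algebraMap B A) ⊔ x ^ 2 := by
    intro a ha
    have h1 : algebraMap A L a ∈ (y.map (algebraMap B A)).map (algebraMap A L) := by
      rw [Ideal.map_map, ← IsScalarTower.algebraMap_eq, hm, ← hxL]
      exact Ideal.mem_map_of_mem _ ha
    rw [IsLocalization.algebraMap_mem_map_algebraMap_iff x.primeCompl] at h1
    obtain ⟨s, hs, hsa⟩ := h1
    obtain ⟨v, hv⟩ := Ideal.Quotient.exists_inv (I := x) (fun h => hs (Ideal.Quotient.eq_zero_iff_mem.1 h))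
    obtain ⟨v, rfl⟩ := Ideal.Quotient.mk_surjective v
    rw [← map_mul, ← map_one (Ideal.Quotient.mk x), Ideal.Quotient.eq] at hv
    rw [show a = v * (s * a) + (-(s * v - 1)) * a by ring]
    refine add_mem (Ideal.mem_sup_left (Ideal.mul_mem_left _ v hsa)) (Ideal.mem_sup_right ?_)
    rw [pow_two]
    exact Ideal.mul_mem_mul (neg_mem hv) ha
  have hpow : ∀ M : ℕ, x ^ M ≤ (y ^ M).map (algebraMap B A) ⊔ x ^ (M + 1) := by
    intro M
    induction M with
    | zero => simp [Ideal.map_top]
    | succ M ih =>
      rw [pow_succ x M, pow_succ y M, Ideal.map_mul]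
      refine (Ideal.mul_mono ih hgen).trans ?_
      rw [Ideal.mul_sup, Ideal.sup_mul, Ideal.sup_mul]
      refine sup_le (sup_le le_sup_left (le_sup_of_le_right ?_)) (le_sup_of_le_right (sup_le ?_ ?_))
      · have h1 : y.map (algebraMap B A) ≤ x := Ideal.map_le_iff_le_comap.2 hxy.le
        rw [pow_succ x (M + 1)]
        exact Ideal.mul_mono le_rfl h1
      · have h1 : (y ^ M).map (algebraMap B A) ≤ x ^ M := by
          rw [Ideal.map_pow]; exact Ideal.pow_right_mono (Ideal.map_le_iff_le_comap.2 hxy.le) M
        exact (Ideal.mul_mono h1 le_rfl).trans (by rw [← pow_add])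
      · rw [← pow_add]
        exact Ideal.pow_le_pow_right (by omega)
  have hyM : ∀ M : ℕ, (y ^ M).map (algebraMap B A) ≤ x ^ M := fun M => by
    rw [Ideal.map_pow]; exact Ideal.pow_right_mono (Ideal.map_le_iff_le_comap.2 hxy.le) M
  refine ⟨fun a M => ?_, fun b M hb => ?_⟩
  · induction M with
    | zero => exact ⟨0, by simp⟩
    | succ M ih =>
      obtain ⟨b, hb⟩ := ih
      obtain ⟨c, hc, e, he, hce⟩ := Submodule.mem_sup.1 (hpow M hb)
      have key : ∀ c ∈ (y ^ M).map (algebraMap B A), ∃ b' : B,
          c - algebraMap B A b' ∈ x ^ (M + 1) := by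
        intro c hc
        induction hc using Submodule.span_induction with
        | mem z hz => obtain ⟨b', -, rfl⟩ := hz; exact ⟨b', by simp⟩
        | zero => exact ⟨0, by simp⟩
        | add z w _ _ hz hw =>
          obtain ⟨b₁, h₁⟩ := hz
          obtain ⟨b₂, h₂⟩ := hw
          exact ⟨b₁ + b₂, by rw [map_add, add_sub_add_comm]; exact add_mem h₁ h₂⟩
        | smul r z hz' hz =>
          obtain ⟨b₁, h₁⟩ := hz
          obtain ⟨d, hd⟩ := hres r
          refine ⟨d * b₁, ?_⟩
          rw [smul_eq_mul, show r * z - algebraMap B A (d * b₁) =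
            (r - algebraMap B A d) * z + algebraMap B A d * (z - algebraMap B A b₁) by rw [map_mul]; ring]
          refine add_mem ?_ (Ideal.mul_mem_left _ _ h₁)
          rw [pow_succ']
          exact Ideal.mul_mem_mul hd (hyM M hz')
      obtain ⟨b', hb'⟩ := key c hc
      refine ⟨b + b', ?_⟩
      rw [map_add, show a - (algebraMap B A b + algebraMap B A b') = (c - algebraMap B A b') + e by
        rw [← sub_sub, ← hce]; ring]
      exact add_mem hb' he
  · have h1 : algebraMap B L b ∈ (y ^ M).map (algebraMap B L) := by
      rw [Ideal.map_pow, hm, ← hxL, ← Ideal.map_pow, IsScalarTower.algebraMap_apply B A L]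
      exact Ideal.mem_map_of_mem _ hb
    let By := Localization.AtPrime y
    haveI : Module.Flat By L := (Module.flat_iff_of_isLocalization By y.primeCompl L).2 inferInstance
    haveI : IsLocalHom (algebraMap By L) := by
      show IsLocalHom (algebraMap (Localization.AtPrime y) (Localization.AtPrime x))
      rw [Localization.AtPrime.IsLiesOverAlgebra.algebraMap_eq]
      exact Localization.isLocalHom_localRingHom _ _ _ _
    haveI := Module.FaithfullyFlat.of_flat_of_isLocalHom (A := By) (B := L)
    have h2 : algebraMap B By b ∈ (y ^ M).map (algebraMap B By) := by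
      rw [← Ideal.comap_map_eq_self_of_faithfullyFlat (B := L) ((y ^ M).map (algebraMap B By)), Ideal.mem_comap,
        Ideal.map_map, ← IsScalarTower.algebraMap_eq, ← IsScalarTower.algebraMap_apply]
      exact h1
    rw [IsLocalization.algebraMap_mem_map_algebraMap_iff y.primeCompl] at h2
    obtain ⟨s, hs, hsb⟩ := h2
    rcases Nat.eq_zero_or_pos M with rfl | hM
    · simp
    · have hmem : s ∉ (y ^ M).radical := fun h => hs (by
        have := (Ideal.radical_pow y hM.ne') ▸ h
        rwa [(‹y.IsMaximal›.isPrime).radical] at this)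
      exact ((Ideal.isPrimary_iff.1 (Ideal.isPrimary_of_isMaximal_radical (by
        rw [Ideal.radical_pow y hM.ne', (‹y.IsMaximal›.isPrime).radical]; infer_instance))).2
        (show b * s ∈ y ^ M by rwa [mul_comm] at hsb)).resolve_right hmem

end Groth.Agent.EtInv28
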