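import Groth.Agent.Lib.EtInv28.Core
import Groth.Agent.Lib.EtInv28.Thick
import Groth.Agent.Lib.EtInv28.Tensor
import Groth.Agent.Lib.EtInv28.Ext
import Groth.Agent.Lib.WEtaleH7.Misc
import Mathlib.RingTheory.Unramified.Field
import Mathlib.RingTheory.Jacobson.Ring

/-!
# The quotient of an étale map preserving inertia is étale
-/

set_option autoImplicit false
set_option linter.style.haveILetI false
set_option maxHeartbeats 2000000

universe u

open TensorProduct IsLocalRing
open scoped Pointwise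

namespace Groth.Agent.EtInv28

attribute [local instance] Algebra.TensorProduct.rightAlgebra

theorem finiteType_right (P Q T : Type u) [CommRing P] [CommRing Q] [CommRing T] [Algebra P Q] [Algebra P T]
    [Algebra.FiniteType P Q] : Algebra.FiniteType T (Q ⊗[P] T) :=
  Algebra.FiniteType.equiv (inferInstanceAs (Algebra.FiniteType T (T ⊗[P] Q)))
    (Algebra.TensorProduct.commRight P T Q)

variable {P Q B A G : Type u} [CommRing P] [CommRing Q] [CommRing B] [CommRing A] [Algebra P Q] [Algebra P B]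
  [Algebra Q A] [Algebra B A] [Algebra P A] [IsScalarTower P B A] [IsScalarTower P Q A]
  [Group G] [Finite G] [MulSemiringAction G A] [MulSemiringAction G B] [SMulCommClass G P B]
  [SMulCommClass G Q A] [Algebra.IsInvariant P B G] [Algebra.IsInvariant Q A G]
  [IsNoetherianRing P] [Algebra.FiniteType P Q] [Algebra.FiniteType P B] [Algebra.FiniteType Q A]

/-- An étale point with the same inertia gives an étale map of invariants. -/
theorem isEtaleAt_of_inertia (hPi : Function.Injective (algebraMap P B)) (hQi : Function.Injective (algebraMap Q A))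
    (hGeq : ∀ (g : G) (b : B), algebraMap B A (g • b) = g • algebraMap B A b) (x : Ideal A) [x.IsMaximal]
    (hx : Algebra.IsEtaleAt B x) (hin : x.inertia G = (x.comap (algebraMap B A)).inertia G) :
    Algebra.IsEtaleAt P (x.comap (algebraMap Q A)) := by
  haveI : SMulCommClass G P A := ⟨fun g p a => by
    rw [Algebra.smul_def, Algebra.smul_def, smul_mul', IsScalarTower.algebraMap_apply P Q A, smul_algebraMap]⟩
  haveI : Algebra.FiniteType P A := Algebra.FiniteType.trans (R := P) (S := Q) (A := A) inferInstance inferInstance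
  haveI : Algebra.FiniteType B A := Algebra.FiniteType.of_restrictScalars_finiteType P B A
  letI : Field (A ⧸ x) := Ideal.Quotient.field x
  let p₀ : Ideal P := x.comap (algebraMap P A)
  let K := p₀.ResidueField
  have hkerP : RingHom.ker (algebraMap P (A ⧸ x)) = p₀ := by
    rw [IsScalarTower.algebraMap_eq P A (A ⧸ x), ← RingHom.comap_ker]
    exact congrArg (Ideal.comap _) (Ideal.mk_ker (I := x))
  let lK : K →+* (A ⧸ x) := Ideal.ResidueField.lift p₀ (algebraMap P (A ⧸ x)) hkerP.ge (fun c hc => by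
    show IsUnit (algebraMap P (A ⧸ x) c)
    refine IsUnit.mk0 _ fun h => hc ?_
    rw [← hkerP]
    exact h)
  letI : Algebra K (A ⧸ x) := lK.toAlgebra
  haveI : IsScalarTower P K (A ⧸ x) := IsScalarTower.of_algebraMap_eq fun c =>
    (Ideal.ResidueField.lift_algebraMap _ _ _ _ c).symm
  haveI : Algebra.FiniteType A (A ⧸ x) := Algebra.FiniteType.of_surjective (Algebra.ofId A (A ⧸ x)) Ideal.Quotient.mk_surjective
  haveI : Algebra.FiniteType P (A ⧸ x) := Algebra.FiniteType.trans (R := P) (S := A) (A := (A ⧸ x)) inferInstance inferInstance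
  haveI : Algebra.FiniteType K (A ⧸ x) := Algebra.FiniteType.of_restrictScalars_finiteType P K (A ⧸ x)
  haveI : Module.Finite K (A ⧸ x) := finite_of_finite_type_of_isJacobsonRing K (A ⧸ x)
  obtain ⟨T, _, _, τ, hTn, hTf, hcmax, hcmap, hinsep, hsep⟩ := exists_ext (κ := A ⧸ x) p₀
  haveI := hTn
  haveI := hTf
  haveI := hcmax
  -- the base change
  let φB : B ⊗[P] T →ₐ[P] A ⊗[P] T := Algebra.TensorProduct.map (IsScalarTower.toAlgHom P B A) (AlgHom.id P T)
  let φQ : Q ⊗[P] T →ₐ[P] A ⊗[P] T := Algebra.TensorProduct.map (IsScalarTower.toAlgHom P Q A) (AlgHom.id P T)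
  letI : Algebra (B ⊗[P] T) (A ⊗[P] T) := φB.toRingHom.toAlgebra
  letI : Algebra (Q ⊗[P] T) (A ⊗[P] T) := φQ.toRingHom.toAlgebra
  haveI : IsScalarTower T (B ⊗[P] T) (A ⊗[P] T) := IsScalarTower.of_algebraMap_eq fun t => by
    show (1 : A) ⊗ₜ[P] t = φB ((1 : B) ⊗ₜ[P] t)
    simp [φB]
  haveI : IsScalarTower T (Q ⊗[P] T) (A ⊗[P] T) := IsScalarTower.of_algebraMap_eq fun t => by
    show (1 : A) ⊗ₜ[P] t = φQ ((1 : Q) ⊗ₜ[P] t)
    simp [φQ]
  letI : MulSemiringAction G (A ⊗[P] T) := tensorAction T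
  letI : MulSemiringAction G (B ⊗[P] T) := tensorAction T
  have hfixT : ∀ (g : G) (t : T), tAct T g ((1 : B) ⊗ₜ[P] t) = (1 : B) ⊗ₜ[P] t := fun g t => by
    rw [tAct_tmul, smul_one]
  have hfixQ : ∀ (g : G) (w : Q ⊗[P] T), tAct T g (φQ w) = φQ w := fun g w => by
    induction w with
    | zero => simp
    | add a b ha hb => rw [map_add, map_add, ha, hb]
    | tmul a t =>
      simp only [φQ, Algebra.TensorProduct.map_tmul, AlgHom.id_apply, tAct_tmul, IsScalarTower.coe_toAlgHom']
      rw [smul_algebraMap]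
  haveI : SMulCommClass G T (B ⊗[P] T) := ⟨fun g t z => by
    rw [Algebra.smul_def, Algebra.smul_def, smul_mul']
    exact congrArg (· * _) (hfixT g t)⟩
  haveI : SMulCommClass G (Q ⊗[P] T) (A ⊗[P] T) := ⟨fun g w z => by
    rw [Algebra.smul_def, Algebra.smul_def, smul_mul']
    exact congrArg (· * _) (hfixQ g w)⟩
  haveI : Algebra.IsInvariant (Q ⊗[P] T) (A ⊗[P] T) G := ⟨fun z hz => exists_of_fixed (Q := Q) T z hz⟩
  haveI : Algebra.IsInvariant T (B ⊗[P] T) G := ⟨fun z hz => by
    obtain ⟨w, hw⟩ := exists_of_fixed (Q := P) T z hz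
    refine ⟨Algebra.TensorProduct.lid P T w, ?_⟩
    rw [← hw]
    clear hw
    induction w with
    | zero => simp
    | add a b ha hb => rw [map_add, map_add, map_add, ha, hb]
    | tmul a t =>
      rw [Algebra.TensorProduct.lid_tmul]
      show (1 : B) ⊗ₜ[P] (a • t) = (IsScalarTower.toAlgHom P P B a) ⊗ₜ[P] t
      rw [← TensorProduct.smul_tmul, IsScalarTower.coe_toAlgHom', Algebra.algebraMap_eq_smul_one]⟩
  haveI := finiteType_right P Q T
  haveI := finiteType_right P B T
  haveI := finiteType_right P A T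
  haveI : Algebra.FiniteType (Q ⊗[P] T) (A ⊗[P] T) :=
    Algebra.FiniteType.of_restrictScalars_finiteType T (Q ⊗[P] T) (A ⊗[P] T)
  haveI : Algebra.FiniteType (B ⊗[P] T) (A ⊗[P] T) :=
    Algebra.FiniteType.of_restrictScalars_finiteType T (B ⊗[P] T) (A ⊗[P] T)
  haveI : IsNoetherianRing (Q ⊗[P] T) := Algebra.FiniteType.isNoetherianRing T _
  haveI : IsNoetherianRing (A ⊗[P] T) := Algebra.FiniteType.isNoetherianRing T _
  haveI : IsNoetherianRing (B ⊗[P] T) := Algebra.FiniteType.isNoetherianRing T _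
  haveI := Algebra.IsInvariant.isIntegral T (B ⊗[P] T) G
  haveI := Algebra.IsInvariant.isIntegral (Q ⊗[P] T) (A ⊗[P] T) G
  haveI : Module.Finite T (B ⊗[P] T) := Algebra.IsIntegral.finite
  haveI : Module.Finite (Q ⊗[P] T) (A ⊗[P] T) := Algebra.IsIntegral.finite
  haveI : Algebra.FinitePresentation (B ⊗[P] T) (A ⊗[P] T) :=
    Algebra.FinitePresentation.of_finiteType.1 inferInstance
  -- the point above `x`
  let ψ : A ⊗[P] T →ₐ[P] (A ⧸ x) := Algebra.TensorProduct.lift (Ideal.Quotient.mkₐ P x) τ fun _ _ => Commute.all _ _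
  have hψl : ∀ a : A, ψ (a ⊗ₜ[P] (1 : T)) = Ideal.Quotient.mk x a := fun a => by simp [ψ]
  have hψr : ∀ t : T, ψ ((1 : A) ⊗ₜ[P] t) = τ t := fun t => by simp [ψ]
  have hψs : Function.Surjective ψ := fun z => by
    obtain ⟨a, rfl⟩ := Ideal.Quotient.mk_surjective z
    exact ⟨a ⊗ₜ[P] 1, hψl a⟩
  set x' := RingHom.ker ψ with hx'
  haveI : x'.IsMaximal := RingHom.ker_isMaximal_of_surjective ψ hψs
  set y' := x'.comap (algebraMap (B ⊗[P] T) (A ⊗[P] T)) with hy'
  have hyc : y'.comap (algebraMap T (B ⊗[P] T)) = RingHom.ker τ := by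
    ext t
    show ψ (φB ((1 : B) ⊗ₜ[P] t)) = 0 ↔ τ t = 0
    rw [← hψr t]
    simp [φB]
  haveI : y'.IsMaximal := Ideal.isMaximal_of_isIntegral_of_isMaximal_comap (R := T) y' (by rw [hyc]; exact hcmax)
  have hxx : x'.comap (Algebra.TensorProduct.includeLeft : A →ₐ[P] A ⊗[P] T).toRingHom = x := by
    ext a
    show ψ (a ⊗ₜ[P] (1 : T)) = 0 ↔ _
    rw [hψl, Ideal.Quotient.eq_zero_iff_mem]
  have het : Algebra.IsEtaleAt (B ⊗[P] T) x' := isEtaleAt_tensor T x hx x' hxx
  let q₁ := ringExpChar K
  haveI : ExpChar (A ⧸ x) q₁ := expChar_of_injective_algebraMap (algebraMap K (A ⧸ x)).injective q₁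
  -- the residue extension is trivial
  have hres : ∀ a : A ⊗[P] T, ∃ b : B ⊗[P] T, a - algebraMap (B ⊗[P] T) (A ⊗[P] T) b ∈ x' := by
    letI : Field ((B ⊗[P] T) ⧸ y') := Ideal.Quotient.field y'
    let j : (B ⊗[P] T) ⧸ y' →+* (A ⧸ x) := Ideal.Quotient.lift y' (ψ.toRingHom.comp φB.toRingHom) fun b hb => hb
    letI : Algebra ((B ⊗[P] T) ⧸ y') (A ⧸ x) := j.toAlgebra
    haveI : IsScalarTower B ((B ⊗[P] T) ⧸ y') (A ⧸ x) :=
      IsScalarTower.of_algebraMap_eq (R := B) (S := (B ⊗[P] T) ⧸ y') (A := A ⧸ x) fun b => by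
      show algebraMap B (A ⧸ x) b = ψ (φB (b ⊗ₜ[P] (1 : T)))
      simp only [φB, Algebra.TensorProduct.map_tmul, AlgHom.id_apply, hψl, IsScalarTower.coe_toAlgHom']
      rfl
    haveI := hx
    let L := Localization.AtPrime x
    let θ : L →+* (A ⧸ x) := IsLocalization.lift (M := x.primeCompl) (g := Ideal.Quotient.mk x) fun s =>
      IsUnit.mk0 _ fun h => s.2 (Ideal.Quotient.eq_zero_iff_mem.1 h)
    let θ' : L →ₐ[B] (A ⧸ x) :=
      { toRingHom := θ
        commutes' := fun b => by
          show θ (algebraMap B L b) = _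
          rw [IsScalarTower.algebraMap_apply B A L, IsScalarTower.algebraMap_apply B A (A ⧸ x)]
          exact IsLocalization.lift_eq _ _ }
    haveI : Algebra.FormallyUnramified B (A ⧸ x) := Algebra.FormallyUnramified.of_surjective θ' fun z => by
      obtain ⟨a, rfl⟩ := Ideal.Quotient.mk_surjective z
      exact ⟨algebraMap A L a, IsLocalization.lift_eq _ _⟩
    haveI : Algebra.FormallyUnramified ((B ⊗[P] T) ⧸ y') (A ⧸ x) := Algebra.FormallyUnramified.of_restrictScalars B _ _
    haveI : Algebra.FiniteType B (A ⧸ x) := Algebra.FiniteType.trans (R := B) (S := A) (A := (A ⧸ x)) inferInstance inferInstance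
    haveI : Algebra.FiniteType ((B ⊗[P] T) ⧸ y') (A ⧸ x) := Algebra.FiniteType.of_restrictScalars_finiteType B _ (A ⧸ x)
    haveI : Algebra.IsSeparable ((B ⊗[P] T) ⧸ y') (A ⧸ x) := Algebra.FormallyUnramified.isSeparable _ _
    haveI : ExpChar ((B ⊗[P] T) ⧸ y') q₁ := (RingHom.expChar_iff j j.injective q₁).2 inferInstance
    haveI : IsPurelyInseparable ((B ⊗[P] T) ⧸ y') (A ⧸ x) := (isPurelyInseparable_iff_pow_mem _ q₁).2 fun z => by
      obtain ⟨n, t, ht⟩ := hinsep z
      refine ⟨n, Ideal.Quotient.mk y' ((1 : B) ⊗ₜ[P] t), ?_⟩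
      show ψ (φB ((1 : B) ⊗ₜ[P] t)) = _
      rw [← ht, ← hψr]
      simp [φB]
    intro a
    obtain ⟨b, hb⟩ := IsPurelyInseparable.surjective_algebraMap_of_isSeparable ((B ⊗[P] T) ⧸ y') (A ⧸ x) (ψ a)
    obtain ⟨b, rfl⟩ := Ideal.Quotient.mk_surjective b
    refine ⟨b, ?_⟩
    rw [hx', RingHom.mem_ker, map_sub, ← hb, sub_eq_zero]
    rfl
  obtain ⟨hsur, hinj⟩ := thick x' het y' hy' hres
  have hGeq' : ∀ (g : G) (b : B ⊗[P] T),
      algebraMap (B ⊗[P] T) (A ⊗[P] T) (g • b) = g • algebraMap (B ⊗[P] T) (A ⊗[P] T) b := fun g b => by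
    show φB (tAct T g b) = tAct T g (φB b)
    induction b with
    | zero => simp
    | add u v hu hv => rw [map_add, map_add, map_add, map_add, hu, hv]
    | tmul b t => simp [φB, tAct_tmul, hGeq]
  -- stabilisers
  have hstab : ∀ g : G, g • y' = y' → g • x' = x' := by
    intro g hg
    have h1 : g ∈ (x.comap (algebraMap B A)).inertia G := by
      intro b
      show algebraMap B A (g • b - b) ∈ x
      obtain ⟨n, t, ht⟩ := hinsep (Ideal.Quotient.mk x (algebraMap B A b))
      set N := q₁ ^ n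
      have h2 : (b ^ N) ⊗ₜ[P] (1 : T) - (1 : B) ⊗ₜ[P] t ∈ y' := by
        show ψ (φB _) = 0
        simp only [φB, map_sub, Algebra.TensorProduct.map_tmul, AlgHom.id_apply, map_one, hψl, hψr,
          IsScalarTower.coe_toAlgHom']
        rw [map_pow, map_pow, ← ht, sub_self]
      have h3 : g • ((b ^ N) ⊗ₜ[P] (1 : T) - (1 : B) ⊗ₜ[P] t) ∈ y' := by
        have := Ideal.smul_mem_pointwise_smul g _ _ h2
        rwa [hg] at this
      change ψ (φB (tAct T g _)) = 0 at h3
      simp only [map_sub, tAct_tmul, φB, Algebra.TensorProduct.map_tmul, AlgHom.id_apply, smul_one, map_one, hψl,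
        hψr, IsScalarTower.coe_toAlgHom', smul_pow', map_pow] at h3
      rw [← Ideal.Quotient.eq_zero_iff_mem, map_sub, map_sub, sub_eq_zero]
      refine iterateFrobenius_inj (A ⧸ x) q₁ n ?_
      rw [iterateFrobenius_def, iterateFrobenius_def, ← ht]
      exact sub_eq_zero.1 h3
    rw [← hin] at h1
    have h4 : ∀ z : A ⊗[P] T, ψ (tAct T g z) = ψ z := fun z => by
      induction z with
      | zero => simp
      | add u v hu hv => rw [map_add, map_add, map_add, hu, hv]
      | tmul a t =>
        rw [tAct_tmul]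
        simp only [ψ, Algebra.TensorProduct.lift_tmul]
        congr 1
        exact Ideal.Quotient.eq.2 (h1 a)
    ext z
    rw [Ideal.mem_pointwise_smul_iff_inv_smul_mem, hx', RingHom.mem_ker, RingHom.mem_ker, ← h4 (g⁻¹ • z)]
    show ψ (g • g⁻¹ • z) = 0 ↔ _
    rw [smul_inv_smul]
  have hPi' : Function.Injective (algebraMap T (B ⊗[P] T)) := fun t t' h => by
    refine (Algebra.TensorProduct.lid P T).symm.injective
      (tensor_injective (P := P) (Q := P) (A := B) T hPi ?_)
    simp
    exact h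
  have hQi' : Function.Injective (algebraMap (Q ⊗[P] T) (A ⊗[P] T)) := tensor_injective (P := P) T hQi
  obtain ⟨hetq, hresq⟩ := isEtaleAt_of_thick (P := T) (Q := Q ⊗[P] T) (G := G) hPi' hQi' hGeq' x' y' hy' hstab hsur hinj
  -- descent
  set q := x.comap (algebraMap Q A) with hq
  set q' := x'.comap (algebraMap (Q ⊗[P] T) (A ⊗[P] T)) with hq'
  have hqq : q'.comap (algebraMap Q (Q ⊗[P] T)) = q := by
    ext a
    show ψ (φQ (a ⊗ₜ[P] (1 : T))) = 0 ↔ algebraMap Q A a ∈ x
    rw [← Ideal.Quotient.eq_zero_iff_mem, ← hψl]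
    simp [φQ]
  haveI : q'.LiesOver q := ⟨hqq.symm⟩
  let L := Localization.AtPrime q
  let L' := Localization.AtPrime q'
  letI := Localization.AtPrime.algebraOfLiesOver q q'
  haveI : Module.Flat Q (Q ⊗[P] T) := inferInstance
  haveI : Module.Flat Q L' := inferInstance
  haveI : Module.Flat L L' := (Module.flat_iff_of_isLocalization L q.primeCompl L').2 inferInstance
  haveI : IsLocalHom (algebraMap L L') := by
    show IsLocalHom (algebraMap (Localization.AtPrime q) (Localization.AtPrime q'))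
    rw [Localization.AtPrime.IsLiesOverAlgebra.algebraMap_eq]
    exact Localization.isLocalHom_localRingHom _ _ _ _
  haveI : Module.FaithfullyFlat L L' := Module.FaithfullyFlat.of_flat_of_isLocalHom
  have hPT : ∀ c : P, algebraMap P L' c = algebraMap T L' (algebraMap P T c) := fun c => by
    rw [IsScalarTower.algebraMap_apply P (Q ⊗[P] T) L', IsScalarTower.algebraMap_apply T (Q ⊗[P] T) L']
    congr 1
    exact ((Algebra.TensorProduct.includeRight : T →ₐ[P] Q ⊗[P] T).commutes c).symm
  haveI : IsScalarTower P T L' := IsScalarTower.of_algebraMap_eq hPT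
  haveI : IsScalarTower P L L' := IsScalarTower.of_algebraMap_eq fun c => by
    rw [IsScalarTower.algebraMap_apply P Q L, ← IsScalarTower.algebraMap_apply Q L L',
      ← IsScalarTower.algebraMap_apply P Q L']
  haveI : Algebra.FinitePresentation T (Q ⊗[P] T) := Algebra.FinitePresentation.of_finiteType.1 inferInstance
  haveI : Module.Flat T L' := flat_atPrime q' hetq
  haveI : Module.Flat P L' := Module.Flat.trans P T L'
  haveI : Module.Flat P L := RingHom.flat_algebraMap_iff.1 (WEtaleH7.flat_of_comp_faithfullyFlat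
    (algebraMap P L) (algebraMap L L') (RingHom.faithfullyFlat_algebraMap_iff.2 inferInstance)
    (by rw [← IsScalarTower.algebraMap_eq]; exact RingHom.flat_algebraMap_iff.2 inferInstance))
  haveI := hetq
  haveI : Algebra.FinitePresentation P Q := Algebra.FinitePresentation.of_finiteType.1 inferInstance
  haveI : q.LiesOver p₀ := ⟨by rw [Ideal.under_def, hq, Ideal.comap_comap, ← IsScalarTower.algebraMap_eq]⟩
  letI := Localization.AtPrime.algebraOfLiesOver p₀ q
  have hqT : q'.comap (algebraMap T (Q ⊗[P] T)) = RingHom.ker τ := by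
    ext t
    show ψ (φQ ((1 : Q) ⊗ₜ[P] t)) = 0 ↔ τ t = 0
    rw [← hψr t]
    simp [φQ]
  haveI : Algebra.IsUnramifiedAt P q := by
    refine (Algebra.isUnramifiedAt_iff_map_eq P p₀ q).2 ⟨⟨fun z => ?_⟩, ?_⟩
    · have hkerQ : RingHom.ker (algebraMap Q (A ⧸ x)) = q := by
        rw [IsScalarTower.algebraMap_eq Q A (A ⧸ x), ← RingHom.comap_ker]
        exact congrArg (Ideal.comap _) (Ideal.mk_ker (I := x))
      let lq : q.ResidueField →+* (A ⧸ x) := Ideal.ResidueField.lift q (algebraMap Q (A ⧸ x)) hkerQ.ge (fun c hc => by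
        show IsUnit (algebraMap Q (A ⧸ x) c)
        refine IsUnit.mk0 _ fun h => hc ?_
        rw [← hkerQ]
        exact h)
      let lq' : q.ResidueField →ₐ[K] (A ⧸ x) :=
        { toRingHom := lq
          commutes' := fun c => RingHom.congr_fun (Ideal.ResidueField.ringHom_ext (f := lq.comp (algebraMap K _))
            (g := algebraMap K (A ⧸ x)) (RingHom.ext fun c => by
              simp only [RingHom.comp_apply]
              rw [← IsScalarTower.algebraMap_apply, ← IsScalarTower.algebraMap_apply,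
                IsScalarTower.algebraMap_apply P Q q.ResidueField, IsScalarTower.algebraMap_apply P Q (A ⧸ x)]
              exact Ideal.ResidueField.lift_algebraMap _ _ _ _ _)) c }
      refine (isSeparable_map_iff lq' lq.injective).1 (mem_separableClosure_iff.1 ?_)
      have hmem : ∀ a : Q, lq' (algebraMap Q q.ResidueField a) ∈ separableClosure K (A ⧸ x) := fun a => by
        obtain ⟨s, hs⟩ := hresq (a ⊗ₜ[P] 1)
        rw [hx', RingHom.mem_ker, map_sub, sub_eq_zero] at hs
        have e : lq' (algebraMap Q q.ResidueField a) = τ s := by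
          refine (show lq (algebraMap Q q.ResidueField a) = algebraMap Q (A ⧸ x) a from
            Ideal.ResidueField.lift_algebraMap _ _ _ _ a).trans ?_
          rw [IsScalarTower.algebraMap_apply Q A (A ⧸ x), ← hψr s]
          refine ((hψl (algebraMap Q A a)).symm.trans ?_)
          refine Eq.trans ?_ hs
          congr 1
        rw [e]
        exact mem_separableClosure_iff.2 (hsep s)
      obtain ⟨a, s, -, rfl⟩ := IsFractionRing.div_surjective (Q ⧸ q) z
      obtain ⟨a, rfl⟩ := Ideal.Quotient.mk_surjective a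
      obtain ⟨s, rfl⟩ := Ideal.Quotient.mk_surjective s
      rw [map_div₀]
      exact div_mem (hmem a) (hmem s)
    · refine (Ideal.comap_map_eq_self_of_faithfullyFlat (B := L') _).symm.trans ?_
      rw [Ideal.map_map, ← IsScalarTower.algebraMap_eq, IsScalarTower.algebraMap_eq P T L', ← Ideal.map_map, hcmap]
      haveI : q'.LiesOver (RingHom.ker τ) := ⟨hqT.symm⟩
      letI := Localization.AtPrime.algebraOfLiesOver (RingHom.ker τ) q'
      rw [((Algebra.isUnramifiedAt_iff_map_eq T (RingHom.ker τ) q').1 inferInstance).2]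
      exact ((IsLocalRing.local_hom_TFAE (algebraMap L L')).out 0 4).1 ‹IsLocalHom (algebraMap L L')›
  exact EtQuotH28.isEtaleAt_of_flat_of_isUnramifiedAt q

end Groth.Agent.EtInv28
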